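import Groth.Agent.GeomField.Connected
import Groth.Agent.S9435
import Mathlib

/-! Finite separable extensions of residue fields are realised by etale morphisms. -/

set_option autoImplicit false
set_option linter.style.haveILetI false
set_option backward.isDefEq.respectTransparency.types false

universe u

open CategoryTheory CategoryTheory.Limits AlgebraicGeometry

namespace Groth.Agent.GeomField

theorem inv_residueFieldMap_fromSpec {W S : Scheme.{u}} (j : W ⟶ S) [IsOpenImmersion j] (x : W) :
    Spec.map (inv (j.residueFieldMap x)) ≫ W.fromSpecResidueField x ≫ j = S.fromSpecResidueField (j x) := by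
  rw [← Scheme.Hom.SpecMap_residueFieldMap_fromSpecResidueField, ← Spec.map_comp_assoc, IsIso.hom_inv_id,
    Spec.map_id, Category.id_comp]

/-- A finite separable extension of the residue field at a point is the residue field of a point of an
etale scheme over the base. -/
theorem exists_etale_realising {S : Scheme.{u}} (s : S) (V : S.Opens) (hV : IsAffineOpen V) (hsV : s ∈ V)
    (k' : Type u) [Field k'] [Algebra (S.residueField s) k'] [FiniteDimensional (S.residueField s) k']
    [Algebra.IsSeparable (S.residueField s) k'] :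
    ∃ (U : Scheme.{u}) (g : U ⟶ S) (u : U), Etale g ∧ g u = s ∧
      ∃ φ : Spec (CommRingCat.of k') ⟶ U,
        φ ≫ g = Spec.map (CommRingCat.ofHom (algebraMap (S.residueField s) k')) ≫ S.fromSpecResidueField s ∧
        IsPreimmersion φ ∧ Set.range φ = {u} := by
  let R : CommRingCat.{u} := Γ(S, V)
  obtain ⟨x, rfl⟩ : ∃ x : Spec R, hV.fromSpec x = s := ⟨_, hV.fromSpec_primeIdealOf ⟨s, hsV⟩⟩
  let p : Ideal R := x.asIdeal
  let e : CommRingCat.of p.ResidueField ≅ S.residueField (hV.fromSpec x) :=
    (Scheme.Spec.residueFieldIso R x).symm ≪≫ (asIso (hV.fromSpec.residueFieldMap x)).symm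
  have he : Spec.map e.hom ≫ Spec.map (CommRingCat.ofHom (algebraMap R p.ResidueField)) ≫ hV.fromSpec =
      S.fromSpecResidueField (hV.fromSpec x) := by
    show Spec.map ((Scheme.Spec.residueFieldIso R x).inv ≫ inv (hV.fromSpec.residueFieldMap x)) ≫ _ = _
    rw [Spec.map_comp, Category.assoc, ← Category.assoc (Spec.map (Scheme.Spec.residueFieldIso R x).inv),
      Scheme.Spec.map_residueFieldIso_inv_eq_fromSpecResidueField]
    exact inv_residueFieldMap_fromSpec hV.fromSpec x
  let er : p.ResidueField ≃+* S.residueField (hV.fromSpec x) := e.commRingCatIsoToRingEquiv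
  letI : Algebra p.ResidueField k' := ((algebraMap (S.residueField (hV.fromSpec x)) k').comp er.toRingHom).toAlgebra
  letI : Algebra R k' := ((algebraMap p.ResidueField k').comp (algebraMap R p.ResidueField)).toAlgebra
  haveI : IsScalarTower R p.ResidueField k' := IsScalarTower.of_algebraMap_eq fun _ => rfl
  haveI : Module.Finite p.ResidueField k' := Module.Finite.of_equiv_equiv er.symm (RingEquiv.refl k') (by
    ext a
    show algebraMap (S.residueField (hV.fromSpec x)) k' (er (er.symm a)) = algebraMap _ k' a
    rw [er.apply_symm_apply])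
  haveI : Algebra.IsSeparable p.ResidueField k' := Algebra.IsSeparable.of_equiv_equiv er.symm (RingEquiv.refl k') (by
    ext a
    show algebraMap (S.residueField (hV.fromSpec x)) k' (er (er.symm a)) = algebraMap _ k' a
    rw [er.apply_symm_apply])
  obtain ⟨R', _, _, _, ψ, hψ⟩ := Groth.Agent.S9435.result R p k'
  let a : R ⟶ CommRingCat.of R' := CommRingCat.ofHom (algebraMap R R')
  haveI : Etale (Spec.map a) := by
    rw [HasRingHomProperty.Spec_iff (P := @Etale)]
    exact RingHom.etale_algebraMap.2 inferInstance
  let φ : Spec (CommRingCat.of k') ⟶ Spec (CommRingCat.of R') := Spec.map (CommRingCat.ofHom ψ.toRingHom)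
  have hφ : φ ≫ Spec.map a ≫ hV.fromSpec = Spec.map (CommRingCat.ofHom (algebraMap (S.residueField (hV.fromSpec x)) k')) ≫
      S.fromSpecResidueField (hV.fromSpec x) := by
    rw [← he, ← Spec.map_comp_assoc, ← Spec.map_comp_assoc, ← Spec.map_comp_assoc]
    congr 2
    ext r
    exact ψ.commutes r
  refine ⟨Spec (CommRingCat.of R'), Spec.map a ≫ hV.fromSpec, φ (IsLocalRing.closedPoint k'), inferInstance, ?_, φ, hφ, ?_, ?_⟩
  · rw [← Scheme.Hom.comp_apply, hφ, Scheme.Hom.comp_apply, Scheme.fromSpecResidueField_apply]
  · rw [IsPreimmersion.SpecMap_iff]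
    haveI : Subsingleton (PrimeSpectrum k') := inferInstance
    refine ⟨Topology.IsEmbedding.of_subsingleton _, ?_⟩
    let q : Ideal R' := RingHom.ker ψ.toRingHom
    haveI : q.IsPrime := RingHom.ker_isPrime _
    let l : q.ResidueField →+* k' := Ideal.ResidueField.lift q ψ.toRingHom le_rfl fun r hr => IsUnit.mk0 _ hr
    have hl : ψ.toRingHom = l.comp (algebraMap R' q.ResidueField) :=
      RingHom.ext fun r => (Ideal.ResidueField.lift_algebraMap q ψ.toRingHom le_rfl (fun r hr => IsUnit.mk0 _ hr) r).symm
    show ψ.toRingHom.SurjectiveOnStalks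
    rw [hl]
    refine (RingHom.surjectiveOnStalks_of_surjective (fun y => ?_)).comp q.surjectiveOnStalks_residueField
    have hy : y ∈ l.fieldRange := by
      refine (hψ.ge.trans (Subfield.closure_le.2 ?_)) (Subfield.mem_top y)
      rintro _ ⟨r, rfl⟩
      exact ⟨algebraMap R' q.ResidueField r, (RingHom.congr_fun hl r).symm⟩
    exact hy
  · refine Set.eq_singleton_iff_unique_mem.2 ⟨⟨_, rfl⟩, ?_⟩
    rintro _ ⟨z, rfl⟩
    rw [Subsingleton.elim (α := PrimeSpectrum k') z (IsLocalRing.closedPoint k')]

end Groth.Agent.GeomField
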